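import Groth.Agent.GroupLawLine.Points

/-! A group law on a scheme with a bijective coordinate is translated addition. -/

suppress_compilation
universe u

open CategoryTheory MonoidalCategory CartesianMonoidalCategory MonObj AlgebraicGeometry Limits
open scoped CategoryTheory.Obj Polynomial

namespace Groth.Agent.GroupLawLine

open Groth.Agent.GaGmQuot

variable {K : Type u} [Field K] {G : Over (SK K)} [GrpObj G]
  {co : ∀ T : Over (SK K), (T ⟶ G) → Γ(T.left, ⊤)}

theorem co_mul_eq (hinj : ∀ T, Function.Injective (co T)) (hsurj : ∀ T, Function.Surjective (co T))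
    (hnat : ∀ {T T' : Over (SK K)} (f : T' ⟶ T) (x : T ⟶ G), co T' (f ≫ x) = f.left.appTop (co T x))
    (T : Over (SK K)) (x y : T ⟶ G) :
    co T (x * y) = co T x + co T y - str T (cB co (1 : Aff K K ⟶ G)) := by
  have hs : ∀ {B : Type u} [CommRing B] [Algebra K B] (b : B), ∃ z : Aff K B ⟶ G, cB co z = b :=
    fun {B} _ _ b => by
      obtain ⟨z, hz⟩ := hsurj (Aff K B) ((Scheme.ΓSpecIso (CommRingCat.of B)).inv b)
      exact ⟨z, by simp [cB, hz]⟩
  obtain ⟨U, hU⟩ := hs (B := K[X][X]) (Polynomial.C Polynomial.X)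
  obtain ⟨V, hV⟩ := hs (B := K[X][X]) Polynomial.X
  let P := cB co (U * V)
  set e := cB co (1 : Aff K K ⟶ G)
  have hP : ∀ (B : Type u) [CommRing B] [Algebra K B] (x y : Aff K B ⟶ G),
      cB co (x * y) = eXY (cB co x) (cB co y) P := fun B _ _ x y => by
    let ψ : K[X][X] →ₐ[K] B :=
      { eXY (cB co x) (cB co y) with commutes' := fun r => eXY_CC _ _ r }
    have hx : endMap ψ ≫ U = x := cB_injective hinj (by
      rw [cB_endMap hnat, hU]; exact (eXY_C_X _ _).1)
    have hy : endMap ψ ≫ V = y := cB_injective hinj (by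
      rw [cB_endMap hnat, hV]; exact (eXY_C_X _ _).2)
    conv_lhs => rw [← hx, ← hy, ← MonObj.comp_mul, cB_endMap hnat]
    rfl
  have hform := add_law P e
    (fun B _ _ a b c => by
      obtain ⟨x, rfl⟩ := hs a; obtain ⟨y, rfl⟩ := hs b; obtain ⟨z, rfl⟩ := hs c
      rw [← hP, ← hP, ← hP, ← hP, _root_.mul_assoc])
    (fun B _ _ a => by
      obtain ⟨x, rfl⟩ := hs a
      rw [← co_one_nat hnat, ← hP, _root_.mul_one])
    (fun B _ _ a => by
      obtain ⟨x, rfl⟩ := hs a
      rw [← co_one_nat hnat, ← hP, _root_.one_mul])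
    (fun a => by
      obtain ⟨x, rfl⟩ := hs a
      exact ⟨cB co x⁻¹, by rw [← hP, _root_.mul_inv_cancel]⟩)
  have hUV : cB co (U * V) = Polynomial.C Polynomial.X + Polynomial.X - algebraMap K K[X][X] e := by
    rw [hP, hform, hU, hV]
  let φ : K[X][X] →+* Γ(T.left, ⊤) := Polynomial.eval₂RingHom (ev T (co T x)) (co T y)
  have hφ : φ.comp (algebraMap K K[X][X]) = str T := RingHom.ext fun r => by
    show Polynomial.eval₂ _ _ (Polynomial.C (Polynomial.C r)) = _
    simp
  let f : T ⟶ Aff K K[X][X] := mkPt φ hφ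
  have hf : ∀ z : Aff K K[X][X] ⟶ G, co T (f ≫ z) = φ (cB co z) := fun z => by
    rw [hnat, co_eq_inv (co := co) z, ← ptHom_mkPt φ hφ]
    rfl
  have hfU : f ≫ U = x := hinj _ (by rw [hf, hU]; simp [φ])
  have hfV : f ≫ V = y := hinj _ (by rw [hf, hV]; simp [φ])
  conv_lhs => rw [← hfU, ← hfV, ← MonObj.comp_mul, hf, hUV, map_sub, map_add]
  rw [show φ (algebraMap K K[X][X] e) = str T e from RingHom.congr_fun hφ e]
  simp [φ]

end Groth.Agent.GroupLawLine
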