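import Groth.Agent.GaGmQuot.Main

/-! Group laws on the line and on the punctured line over a field. -/

suppress_compilation
universe u

namespace Groth.Agent.GroupLawLine

open Polynomial

variable {K : Type u} [Field K]

/-- evaluation of a polynomial in two variables -/
def eXY {B : Type u} [CommRing B] [Algebra K B] (a b : B) : K[X][X] →+* B :=
  eval₂RingHom (aeval a).toRingHom b

theorem eXY_eq {B : Type u} [CommRing B] [Algebra K B] (p : B) (q : B[X]) (P : K[X][X]) :
    eXY (C p) q P = (P.map (aeval p).toRingHom).comp q := by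
  rw [Polynomial.comp, eval₂_map]
  show eval₂ _ q P = eval₂ _ q P
  congr 1
  exact Polynomial.ringHom_ext (fun r => by simp [Polynomial.algebraMap_apply]) (by simp)

theorem map_eXY {B B' : Type u} [CommRing B] [Algebra K B] [CommRing B'] [Algebra K B'] (ψ : B →ₐ[K] B')
    (a b : B) (P : K[X][X]) : ψ (eXY a b P) = eXY (ψ a) (ψ b) P := by
  show ψ.toRingHom (eval₂ _ b P) = eval₂ _ _ P
  rw [hom_eval₂]
  congr 1
  exact Polynomial.ringHom_ext (fun r => by simp) (by simp)

theorem exists_linear (P : K[X][X]) (e : K)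
    (hassoc : ∀ (B : Type u) [CommRing B] [Algebra K B] (a b c : B),
      eXY (eXY a b P) c P = eXY a (eXY b c P) P)
    (hr : ∀ (B : Type u) [CommRing B] [Algebra K B] (a : B), eXY a (algebraMap K B e) P = a) :
    ∃ c₁ : K[X], ∀ (B : Type u) [CommRing B] [Algebra K B] (a b : B),
      eXY a b P = a + aeval a c₁ * (b - algebraMap K B e) := by
  let φa : K[X] →+* K[X][X] := (aeval (C X : K[X][X])).toRingHom
  let φb : K[X] →+* K[X][X] := (aeval (X : K[X][X])).toRingHom
  let φp : K[X] →+* K[X][X] := (aeval (eXY (C X : K[X][X]) X P)).toRingHom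
  have hφa : Function.Injective φa := fun p q h => by
    have e1 : ∀ p : K[X], φa p = C p := fun p => by
      simp [φa, aeval_def, show algebraMap K K[X][X] = (C : K[X] →+* K[X][X]).comp C from rfl,
        ← hom_eval₂, eval₂_C_X]
    rw [e1, e1] at h
    exact C_injective h
  have hφb : Function.Injective φb := fun p q h => by
    have e1 : ∀ p : K[X], (evalRingHom (X : K[X])) (φb p) = p := fun p => by
      show evalRingHom (X : K[X]) (eval₂ _ _ p) = p
      rw [hom_eval₂]
      simp [show algebraMap K K[X][X] = (C : K[X] →+* K[X][X]).comp C from rfl, RingHom.comp_assoc]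
      exact (show eval₂ _ X p = eval₂ C X p by congr 1; ext r; simp).trans eval₂_C_X
    rw [← e1 p, h, e1]
  have h := hassoc K[X][X][X] (C (C X)) (C X) X
  have hab : eXY (C (C X) : K[X][X][X]) (C X) P = C (eXY (C X : K[X][X]) X P) := by
    rw [eXY_eq, comp_C, eval_map]
    rfl
  have hbc : eXY (C X : K[X][X][X]) X P = P.map φb := by rw [eXY_eq, comp_X]
  rw [hab, hbc, eXY_eq (eXY (C X : K[X][X]) X P) X, eXY_eq (C X : K[X][X]) (P.map φb), comp_X] at h
  have hn := congrArg natDegree h
  change (P.map φp).natDegree = ((P.map φa).comp (P.map φb)).natDegree at hn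
  rw [natDegree_comp, natDegree_map_eq_of_injective hφa, natDegree_map_eq_of_injective hφb] at hn
  have hle : (P.map φp).natDegree ≤ P.natDegree := natDegree_map_le
  have h1 : P.natDegree ≤ 1 := by
    by_contra h2
    have : 2 * P.natDegree ≤ P.natDegree * P.natDegree := Nat.mul_le_mul_right _ (by omega)
    omega
  refine ⟨P.coeff 1, fun B _ _ a b => ?_⟩
  have hf : ∀ b : B, eXY a b P = aeval a (P.coeff 1) * b + aeval a (P.coeff 0) := fun b => by
    conv_lhs => rw [eq_X_add_C_of_natDegree_le_one h1]
    simp [eXY]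
  linear_combination hf b - hf (algebraMap K B e) + hr B a

/-- the swap of the two variables -/
def swap (P : K[X][X]) : K[X][X] := eXY (X : K[X][X]) (C X) P

theorem eXY_C_X {B : Type u} [CommRing B] [Algebra K B] (a b : B) : eXY a b (C (X : K[X])) = a ∧ eXY a b (X : K[X][X]) = b := by
  constructor <;> simp [eXY]

theorem eXY_CC {B : Type u} [CommRing B] [Algebra K B] (a b : B) (r : K) :
    eXY a b (C (C r)) = algebraMap K B r := by simp [eXY]

theorem eXY_swap {B : Type u} [CommRing B] [Algebra K B] (a b : B) (P : K[X][X]) :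
    eXY a b (swap P) = eXY b a P := by
  let ψ : K[X][X] →ₐ[K] B := { eXY a b with commutes' := fun r => eXY_CC a b r }
  refine (map_eXY ψ _ _ P).trans ?_
  rw [show ψ (X : K[X][X]) = b from (eXY_C_X a b).2, show ψ (C X) = a from (eXY_C_X a b).1]

/-- a group law on the line is a translate of addition -/
theorem add_law (P : K[X][X]) (e : K)
    (hassoc : ∀ (B : Type u) [CommRing B] [Algebra K B] (a b c : B),
      eXY (eXY a b P) c P = eXY a (eXY b c P) P)
    (hr : ∀ (B : Type u) [CommRing B] [Algebra K B] (a : B), eXY a (algebraMap K B e) P = a)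
    (hl : ∀ (B : Type u) [CommRing B] [Algebra K B] (a : B), eXY (algebraMap K B e) a P = a)
    (hinv : ∀ a : K, ∃ b : K, eXY a b P = e) :
    ∀ (B : Type u) [CommRing B] [Algebra K B] (a b : B), eXY a b P = a + b - algebraMap K B e := by
  obtain ⟨c₁, hc⟩ := exists_linear P e hassoc hr
  obtain ⟨d₁, hd⟩ := exists_linear (swap P) e
    (fun B _ _ a b c => by simp only [eXY_swap]; exact (hassoc B c b a).symm)
    (fun B _ _ a => by rw [eXY_swap]; exact hl B a)
  let b₀ : K[X] := algebraMap K K[X] (e + 1)
  have h := (hd K[X] b₀ X).symm.trans ((eXY_swap b₀ X P).trans (hc K[X] X b₀))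
  have hb : aeval b₀ d₁ = C (d₁.eval (e + 1)) := by
    rw [show b₀ = algebraMap K K[X] (e + 1) from rfl, aeval_algebraMap_apply, coe_aeval_eq_eval]
    rfl
  rw [hb, aeval_X_left_apply] at h
  simp only [b₀, Polynomial.algebraMap_apply, Algebra.algebraMap_self, RingHom.id_apply, map_add, map_one] at h
  set m := d₁.eval (e + 1) - 1
  have hc₁ : ∀ (B : Type u) [CommRing B] [Algebra K B] (a : B),
      aeval a c₁ = 1 + algebraMap K B m * (a - algebraMap K B e) := fun B _ _ a => by
    have e2 : c₁ = 1 + C m * (X - C e) := by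
      simp only [m, map_sub, map_one]
      linear_combination -h
    rw [e2]; simp
  have hm : m = 0 := by
    by_contra hm
    obtain ⟨b, hb⟩ := hinv (e - 1 / m)
    rw [hc K, hc₁] at hb
    simp only [Algebra.algebraMap_self, RingHom.id_apply] at hb
    have : (1 + m * (e - 1 / m - e)) = 0 := by field_simp; ring
    rw [this, zero_mul, add_zero] at hb
    exact hm (by simpa using sub_eq_self.mp hb)
  intro B _ _ a b
  rw [hc, hc₁, hm, map_zero, zero_mul, add_zero, one_mul]
  ring

end Groth.Agent.GroupLawLine
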