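import Groth.Agent.GroupLawLine.Points

/-! A group law on a scheme whose coordinate gives the units is translated multiplication. -/

suppress_compilation
universe u

open CategoryTheory MonoidalCategory CartesianMonoidalCategory MonObj AlgebraicGeometry Limits
open scoped CategoryTheory.Obj Polynomial LaurentPolynomial

namespace Groth.Agent.GroupLawLine

open Groth.Agent.GaGmQuot

open LaurentPolynomial in
theorem exists_eq_C_mul_T {A : Type u} [CommRing A] [IsDomain A] {p : A[T;T⁻¹]} (hp : IsUnit p) :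
    ∃ (a : A) (n : ℤ), IsUnit a ∧ p = C a * T n := by
  obtain ⟨q, hq⟩ := isUnit_iff_exists_inv.mp hp
  obtain ⟨m, p', hp'⟩ := exists_T_pow p
  obtain ⟨l, q', hq'⟩ := exists_T_pow q
  have hpq : p' * q' = Polynomial.X ^ (m + l) := Polynomial.toLaurent_injective (by
    rw [map_mul, hp', hq', Polynomial.toLaurent_X_pow, Nat.cast_add, T_add]
    linear_combination (T (m : ℤ) * T (l : ℤ)) * hq)
  obtain ⟨i, -, hi⟩ := (dvd_prime_pow Polynomial.prime_X (m + l)).mp ⟨q', hpq.symm⟩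
  obtain ⟨v, hv⟩ := hi.symm
  obtain ⟨a, ha, hav⟩ := Polynomial.isUnit_iff.mp v.isUnit
  refine ⟨a, (i : ℤ) - m, ha, ?_⟩
  have h := hp'
  rw [← hv, ← hav, map_mul, Polynomial.toLaurent_X_pow, Polynomial.toLaurent_C] at h
  have h1 : (T (m : ℤ) : A[T;T⁻¹]) * T (-(m : ℤ)) = 1 := by rw [← T_add, add_neg_cancel, T_zero]
  rw [sub_eq_add_neg, T_add]
  linear_combination (-(T (-(m : ℤ)))) * h - p * h1

variable {K : Type u} [Field K] {G : Over (SK K)} [GrpObj G]
  {co : ∀ T : Over (SK K), (T ⟶ G) → Γ(T.left, ⊤)}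

theorem co_mul_eq_units (hinj : ∀ T, Function.Injective (co T))
    (hunit : ∀ (T : Over (SK K)) (x : T ⟶ G), IsUnit (co T x)) (hsurj : ∀ (T : Over (SK K)) (a : Γ(T.left, ⊤)ˣ), ∃ x, co T x = a)
    (hnat : ∀ {T T' : Over (SK K)} (f : T' ⟶ T) (x : T ⟶ G), co T' (f ≫ x) = f.left.appTop (co T x))
    (T : Over (SK K)) (x y : T ⟶ G) :
    co T (x * y) * str T (cB co (1 : Aff K K ⟶ G)) = co T x * co T y := by
  have hs : ∀ {B : Type u} [CommRing B] [Algebra K B] (b : Bˣ), ∃ z : Aff K B ⟶ G, cB co z = b :=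
    fun {B} _ _ b => by
      obtain ⟨z, hz⟩ := hsurj (Aff K B) (Units.map (Scheme.ΓSpecIso (CommRingCat.of B)).inv.hom.toMonoidHom b)
      exact ⟨z, by simp [cB, hz]⟩
  have hu : ∀ {B : Type u} [CommRing B] [Algebra K B] (z : Aff K B ⟶ G), IsUnit (cB co z) :=
    fun {B} _ _ z => (hunit _ z).map (Scheme.ΓSpecIso (CommRingCat.of B)).hom.hom
  set e := cB co (1 : Aff K K ⟶ G)
  obtain ⟨U, hU⟩ := hs (B := K[T;T⁻¹][T;T⁻¹])
    ((LaurentPolynomial.isUnit_T (R := K) 1).map (LaurentPolynomial.C)).unit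
  obtain ⟨V, hV⟩ := hs (B := K[T;T⁻¹][T;T⁻¹]) (LaurentPolynomial.isUnit_T (R := K[T;T⁻¹]) 1).unit
  rw [IsUnit.unit_spec] at hU hV
  obtain ⟨u, n, hu', hP⟩ := exists_eq_C_mul_T (hu (U * V))
  obtain ⟨c, m, hc', rfl⟩ := exists_eq_C_mul_T hu'
  -- evaluation at units
  have hev : ∀ (T : Over (SK K)) (x y : T ⟶ G), co T (x * y) =
      str T c * ((hunit T x).unit ^ m).val * ((hunit T y).unit ^ n).val := fun T x y => by
    let φ : K[T;T⁻¹][T;T⁻¹] →+* Γ(T.left, ⊤) :=
      LaurentPolynomial.eval₂ (LaurentPolynomial.eval₂ (str T) (hunit T x).unit) (hunit T y).unit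
    have hφ : φ.comp (algebraMap K K[T;T⁻¹][T;T⁻¹]) = str T := RingHom.ext fun r => by
      show φ (LaurentPolynomial.C (LaurentPolynomial.C r)) = _
      simp [φ]
    let f : T ⟶ Aff K K[T;T⁻¹][T;T⁻¹] := mkPt φ hφ
    have hf : ∀ z : Aff K K[T;T⁻¹][T;T⁻¹] ⟶ G, co T (f ≫ z) = φ (cB co z) := fun z => by
      rw [hnat, co_eq_inv (co := co) z, ← ptHom_mkPt φ hφ]
      rfl
    have hfU : f ≫ U = x := hinj _ (by rw [hf, hU]; simp [φ])
    have hfV : f ≫ V = y := hinj _ (by rw [hf, hV]; simp [φ])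
    conv_lhs => rw [← hfU, ← hfV, ← MonObj.comp_mul, hf, hP]
    simp [φ]
  -- the unit laws on the punctured line force `m = n = 1`
  obtain ⟨w, hw⟩ := hs (B := K[T;T⁻¹]) (LaurentPolynomial.isUnit_T (R := K) 1).unit
  rw [IsUnit.unit_spec] at hw
  have he : e ≠ 0 := (hu (1 : Aff K K ⟶ G)).ne_zero
  have key : ∀ k l : ℤ, (∀ (T : Over (SK K)) (x : T ⟶ G), co T x =
      str T c * ((hunit T x).unit ^ k).val * ((hunit T 1).unit ^ l).val) → k = 1 ∧ c * e ^ l = 1 := by
    intro k l h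
    let Γi : Γ((Aff K K[T;T⁻¹]).left, ⊤) →+* K[T;T⁻¹] := (Scheme.ΓSpecIso (CommRingCat.of K[T;T⁻¹])).hom.hom
    have h' := congrArg Γi (h _ w)
    have hstr : Γi (str (Aff K K[T;T⁻¹]) c) = algebraMap K K[T;T⁻¹] c := by
      rw [str_aff]; simp [Γi]
    have h1 : Γi (((hunit _ w).unit ^ k).val) = LaurentPolynomial.T k := by
      have : Units.map Γi.toMonoidHom (hunit _ w).unit = (LaurentPolynomial.isUnit_T (R := K) 1).unit :=
        Units.ext hw
      have h2 := congrArg (fun z : K[T;T⁻¹]ˣ => (z ^ k).val) this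
      rw [← map_zpow] at h2
      refine h2.trans ?_
      rw [← LaurentPolynomial.eval₂_T (algebraMap K K[T;T⁻¹]) (LaurentPolynomial.isUnit_T (R := K) 1).unit k]
      conv_rhs => rw [← RingHom.id_apply (LaurentPolynomial.T k : K[T;T⁻¹])]
      congr 1
      refine IsLocalization.ringHom_ext (Submonoid.powers (Polynomial.X : K[X]))
        (Polynomial.ringHom_ext (fun r => ?_) ?_) <;> simp [LaurentPolynomial.algebraMap_apply]
    have h3 : Γi (((hunit (Aff K K[T;T⁻¹]) (1 : Aff K K[T;T⁻¹] ⟶ G)).unit ^ l).val) =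
        algebraMap K K[T;T⁻¹] (e ^ l) := by
      have h2 : Units.map Γi.toMonoidHom (hunit (Aff K K[T;T⁻¹]) 1).unit =
          Units.map (algebraMap K K[T;T⁻¹]).toMonoidHom (Units.mk0 e he) := Units.ext (co_one_nat hnat)
      have h4 := congrArg (fun z : K[T;T⁻¹]ˣ => (z ^ l).val) h2
      rw [← map_zpow, ← map_zpow] at h4
      refine h4.trans ?_
      show ((Units.map (algebraMap K K[T;T⁻¹]).toMonoidHom (Units.mk0 e he ^ l)) : K[T;T⁻¹]) = _
      rw [Units.coe_map, Units.val_zpow_eq_zpow_val]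
      rfl
    rw [show Γi (co _ w) = LaurentPolynomial.T 1 from hw, map_mul, map_mul, hstr, h1, h3] at h'
    simp only [LaurentPolynomial.algebraMap_apply, Algebra.algebraMap_self, RingHom.id_apply] at h'
    rw [mul_right_comm, ← map_mul, ← LaurentPolynomial.single_eq_C_mul_T] at h'
    have h5 : AddMonoidAlgebra.single k (c * e ^ l) = AddMonoidAlgebra.single (1 : ℤ) (1 : K) := h'.symm
    rcases AddMonoidAlgebra.single_inj.mp h5 with ⟨h6, h7⟩ | ⟨-, h7⟩
    · exact ⟨h6, h7⟩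
    · exact absurd h7 one_ne_zero
  obtain ⟨rfl, hm⟩ := key m n (fun T x => by
    conv_lhs => rw [← _root_.mul_one x]
    exact hev T x 1)
  obtain ⟨rfl, hn⟩ := key n 1 (fun T x => by
    conv_lhs => rw [← _root_.one_mul x]
    rw [hev T 1 x, mul_right_comm])
  rw [hev, zpow_one, zpow_one, IsUnit.unit_spec, IsUnit.unit_spec]
  have h9 : str T c * str T e = 1 := by
    rw [← map_mul, show c * e = 1 by simpa using hn, map_one]
  linear_combination (co T x * co T y) * h9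

end Groth.Agent.GroupLawLine
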