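import Groth.Agent.GroupLawLine.Basic

/-! Group laws on schemes over a field with a coordinate function. -/

suppress_compilation
universe u

open CategoryTheory MonoidalCategory CartesianMonoidalCategory MonObj AlgebraicGeometry Limits
open scoped CategoryTheory.Obj Polynomial

namespace Groth.Agent.GroupLawLine

open Groth.Agent.GaGmQuot

variable {K : Type u} [Field K] {G : Over (SK K)}
  (co : ∀ T : Over (SK K), (T ⟶ G) → Γ(T.left, ⊤))

/-- the coordinate in the algebra -/
def cB {B : Type u} [CommRing B] [Algebra K B] (x : Aff K B ⟶ G) : B :=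
  (Scheme.ΓSpecIso (CommRingCat.of B)).hom (co _ x)

variable {co}

theorem co_eq_inv {B : Type u} [CommRing B] [Algebra K B] (x : Aff K B ⟶ G) :
    co _ x = (Scheme.ΓSpecIso (CommRingCat.of B)).inv (cB co x) := by
  simp [cB]

theorem cB_injective (hinj : ∀ T, Function.Injective (co T)) {B : Type u} [CommRing B] [Algebra K B] :
    Function.Injective (cB co : (Aff K B ⟶ G) → B) := fun x y h =>
  hinj _ (by rw [co_eq_inv (co := co) x, co_eq_inv (co := co) y, h])

theorem cB_endMap (hnat : ∀ {T T' : Over (SK K)} (f : T' ⟶ T) (x : T ⟶ G), co T' (f ≫ x) = f.left.appTop (co T x))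
    {B B' : Type u} [CommRing B] [Algebra K B] [CommRing B'] [Algebra K B'] (ψ : B →ₐ[K] B')
    (x : Aff K B ⟶ G) : cB co (endMap ψ ≫ x) = ψ (cB co x) := by
  rw [cB, hnat]
  exact congr($(Scheme.ΓSpecIso_naturality (CommRingCat.ofHom ψ.toRingHom)).hom (co _ x))

theorem co_one_nat (hnat : ∀ {T T' : Over (SK K)} (f : T' ⟶ T) (x : T ⟶ G), co T' (f ≫ x) = f.left.appTop (co T x))
    [GrpObj G] {B : Type u} [CommRing B] [Algebra K B] :
    cB co (1 : Aff K B ⟶ G) = algebraMap K B (cB co (1 : Aff K K ⟶ G)) := by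
  rw [← MonObj.comp_one (endMap (Algebra.ofId K B)), cB_endMap hnat]
  rfl

end Groth.Agent.GroupLawLine
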